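import Mathlib.Algebra.Module.FinitePresentation

set_option autoImplicit false
universe u v

namespace Groth.Agent.Coh3

variable {R : Type u} [CommRing R]

/-- Finitely generated submodules are finitely presented. -/
def FGisFP (R : Type u) [CommRing R] (M : Type v) [AddCommGroup M] [Module R M] : Prop :=
  ∀ N : Submodule R M, N.FG → Module.FinitePresentation R N

variable {M₁ M₂ M₃ : Type v} [AddCommGroup M₁] [Module R M₁] [AddCommGroup M₂] [Module R M₂]
  [AddCommGroup M₃] [Module R M₃]

lemma fgIsFP_of_equiv (e : M₁ ≃ₗ[R] M₂) (h : FGisFP R M₁) : FGisFP R M₂ := fun N hN => by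
  have := h (N.map e.symm.toLinearMap) (hN.map _)
  exact Module.FinitePresentation.of_equiv
    (Submodule.equivMapOfInjective e.symm.toLinearMap e.symm.injective N).symm

lemma fgIsFP_of_exact (f : M₁ →ₗ[R] M₂) (g : M₂ →ₗ[R] M₃) (hf : Function.Injective f)
    (hfg : LinearMap.range f = LinearMap.ker g) (h₁ : FGisFP R M₁) (h₃ : FGisFP R M₃) :
    FGisFP R M₂ := by
  intro N hN
  have : Module.Finite R N := Module.Finite.iff_fg.mpr hN
  let φ : N →ₗ[R] (N.map g) := g.restrict fun x hx => Submodule.mem_map_of_mem hx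
  have hφ : Function.Surjective φ := by
    rintro ⟨_, x, hx, rfl⟩; exact ⟨⟨x, hx⟩, rfl⟩
  have : Module.FinitePresentation R (N.map g) := h₃ _ (hN.map g)
  have hfg' : (LinearMap.ker φ).FG := Module.FinitePresentation.fg_ker φ hφ
  let K := (LinearMap.ker φ).map N.subtype
  have hK : K ≤ LinearMap.range f := by
    rintro _ ⟨x, hx, rfl⟩
    rw [hfg, LinearMap.mem_ker]
    exact congrArg Subtype.val (LinearMap.mem_ker.mp hx)
  have hKf : (K.comap f).map f = K := Submodule.map_comap_eq_of_le hK
  have : Module.FinitePresentation R (K.comap f) :=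
    h₁ _ (Submodule.fg_of_fg_map_injective f hf (hKf.symm ▸ hfg'.map _))
  have : Module.FinitePresentation R (LinearMap.ker φ) := Module.FinitePresentation.of_equiv
    (((Submodule.equivMapOfInjective f hf (K.comap f)).trans (LinearEquiv.ofEq _ _ hKf)).trans
      (Submodule.equivMapOfInjective N.subtype N.injective_subtype (LinearMap.ker φ)).symm)
  exact Module.finitePresentation_of_ker φ hφ

lemma fgIsFP_pi (hR : FGisFP R R) : ∀ n, FGisFP R (Fin n → R)
  | 0 => fun N _ => inferInstance
  | n + 1 => fgIsFP_of_equiv (Fin.consLinearEquiv R fun _ : Fin (n + 1) => R)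
      (fgIsFP_of_exact (LinearMap.inl R R (Fin n → R)) (LinearMap.snd R R (Fin n → R))
        LinearMap.inl_injective (LinearMap.range_inl R _ _) hR (fgIsFP_pi hR n))

lemma fgIsFP_of_finitePresentation (hR : FGisFP R R) [Module.FinitePresentation R M₁] :
    FGisFP R M₁ := by
  obtain ⟨n, π, hπ⟩ := Module.Finite.exists_fin' R M₁
  intro N hN
  let φ : N.comap π →ₗ[R] N := π.restrict fun x hx => hx
  have hφ : Function.Surjective φ := fun ⟨y, hy⟩ => by
    obtain ⟨x, rfl⟩ := hπ y; exact ⟨⟨x, hy⟩, rfl⟩
  have hker : (LinearMap.ker π).FG := Module.FinitePresentation.fg_ker π hπ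
  have hcomap : (N.comap π).FG := by
    refine Submodule.fg_of_fg_map_of_fg_inf_ker π ?_ ?_
    · rwa [Submodule.map_comap_eq_of_surjective hπ]
    · rwa [inf_eq_right.mpr (fun x hx => by simp [LinearMap.mem_ker.mp hx])]
  have : Module.FinitePresentation R (N.comap π) := fgIsFP_pi hR n _ hcomap
  refine Module.finitePresentation_of_surjective φ hφ ?_
  apply Submodule.fg_of_fg_map_injective (N.comap π).subtype (Submodule.injective_subtype _)
  convert hker using 1
  ext x
  constructor
  · rintro ⟨⟨x, hx⟩, h, rfl⟩; exact congrArg Subtype.val (LinearMap.mem_ker.mp h)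
  · intro h
    refine ⟨⟨x, ?_⟩, Subtype.ext (LinearMap.mem_ker.mp h), rfl⟩
    simp [LinearMap.mem_ker.mp h]

end Groth.Agent.Coh3
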