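import Mathlib.Algebra.Module.StablyFree.Basic
import Mathlib.RingTheory.Nakayama
import Mathlib.RingTheory.Finiteness.Projective
import Mathlib.RingTheory.TensorProduct.Free
import Mathlib.LinearAlgebra.TensorProduct.RightExactness
import Mathlib.LinearAlgebra.TensorProduct.Quotient
import Mathlib.RingTheory.Finiteness.Prod
import Mathlib.RingTheory.TensorProduct.Finite

set_option autoImplicit false
universe u
open scoped TensorProduct

namespace Groth.Agent.Coh3

variable {R : Type u} [CommRing R] {A B : Type u} [AddCommGroup A] [Module R A]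
  [AddCommGroup B] [Module R B]

lemma isStablyFree_prod [Module.IsStablyFree R A] [Module.IsStablyFree R B] :
    Module.IsStablyFree R (A × B) := by
  obtain ⟨C, _, _, _, _, hC⟩ := Module.IsStablyFree.exist_free_prod R A
  obtain ⟨D, _, _, _, _, hD⟩ := Module.IsStablyFree.exist_free_prod R B
  have : Module.Free R ((A × B) × (C × D)) :=
    Module.Free.of_equiv (LinearEquiv.prodProdProdComm R A B C D).symm
  exact Module.IsStablyFree.of_free_prod R (A × B) (C × D)

lemma isStablyFree_of_prod [Module.Finite R A] [Module.IsStablyFree R A]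
    [h : Module.IsStablyFree R (A × B)] : Module.IsStablyFree R B := by
  obtain ⟨C, _, _, _, _, hC⟩ := Module.IsStablyFree.exist_free_prod R A
  obtain ⟨D, _, _, _, _, hD⟩ := Module.IsStablyFree.exist_free_prod R (A × B)
  have : Module.Free R (B × ((A × C) × D)) := by
    let e : (((A × B) × D) × C) ≃ₗ[R] B × ((A × C) × D) :=
      { toFun := fun x => (x.1.1.2, ((x.1.1.1, x.2), x.1.2))
        invFun := fun y => (((y.2.1.1, y.1), y.2.2), y.2.1.2)
        map_add' := fun _ _ => rfl
        map_smul' := fun _ _ => rfl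
        left_inv := fun _ => rfl
        right_inv := fun _ => rfl }
    exact Module.Free.of_equiv e
  exact Module.IsStablyFree.of_free_prod R B ((A × C) × D)

lemma surjective_of_baseChange (I : Ideal R) (hI : I ≤ Ideal.jacobson ⊥) [Module.Finite R B]
    (φ : A →ₗ[R] B) (h : Function.Surjective (φ.baseChange (R ⧸ I))) : Function.Surjective φ := by
  rw [← LinearMap.range_eq_top, eq_top_iff]
  refine Submodule.le_of_le_smul_of_le_jacobson_bot Module.Finite.fg_top hI ?_
  intro y _
  obtain ⟨z, hz⟩ := h (1 ⊗ₜ y)
  obtain ⟨a, rfl⟩ := TensorProduct.mk_surjective R A (R ⧸ I) Ideal.Quotient.mk_surjective z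
  rw [TensorProduct.mk_apply, LinearMap.baseChange_tmul] at hz
  have h2 := congrArg (TensorProduct.quotTensorEquivQuotSMul B I) hz
  rw [← map_one (Ideal.Quotient.mk I), TensorProduct.quotTensorEquivQuotSMul_mk_tmul, one_smul,
    TensorProduct.quotTensorEquivQuotSMul_mk_tmul, one_smul, Submodule.Quotient.eq] at h2
  rw [← sub_sub_cancel (φ a) y]
  exact Submodule.sub_mem_sup ⟨a, rfl⟩ h2

lemma bijective_of_baseChange (I : Ideal R) (hI : I ≤ Ideal.jacobson ⊥) [Module.Finite R A]
    [Module.Finite R B] [Module.Projective R B] (φ : A →ₗ[R] B)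
    (h : Function.Bijective (φ.baseChange (R ⧸ I))) : Function.Bijective φ := by
  have hsurj := surjective_of_baseChange I hI φ h.2
  refine ⟨?_, hsurj⟩
  obtain ⟨s, hs⟩ := Module.projective_lifting_property φ LinearMap.id hsurj
  have hs' : Function.Surjective (s.baseChange (R ⧸ I)) := by
    intro z
    refine ⟨φ.baseChange (R ⧸ I) z, h.1 ?_⟩
    rw [← LinearMap.comp_apply (φ.baseChange (R ⧸ I)) (s.baseChange (R ⧸ I)),
      ← LinearMap.baseChange_comp, hs, LinearMap.baseChange_id, LinearMap.id_apply]
  intro x y hxy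
  obtain ⟨x, rfl⟩ := surjective_of_baseChange I hI s hs' x
  obtain ⟨y, rfl⟩ := surjective_of_baseChange I hI s hs' y
  have hx := LinearMap.congr_fun hs x
  have hy := LinearMap.congr_fun hs y
  rw [LinearMap.comp_apply, LinearMap.id_apply] at hx hy
  rw [← hx, ← hy, hxy]

end Groth.Agent.Coh3
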